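import Groth.Agent.InsepLenLib.Ring
import Groth.Agent.CycLib.FibreMult
import Groth.Agent.CycLib.Frac

/-!
# Base change of schemes along a purely inseparable field extension
-/

set_option autoImplicit false
set_option backward.isDefEq.respectTransparency false
set_option linter.style.haveILetI false
set_option maxHeartbeats 1000000

universe u

open CategoryTheory CategoryTheory.Limits AlgebraicGeometry TopologicalSpace TensorProduct

namespace Groth.Agent.InsepLenLib

variable {X Y : Scheme.{u}}

/-- The residue extensions of an integral morphism are algebraic. -/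
theorem resTrdegAt_eq_zero_of_integral (f : X ⟶ Y) [IsIntegralHom f] (x : X) : DimFormulaLib.resTrdegAt f x = 0 := by
  obtain ⟨U, hU, hxU, -⟩ := exists_isAffineOpen_mem_and_subset (x := f x) (U := (⊤ : Y.Opens)) trivial
  have hV : IsAffineOpen (f ⁻¹ᵁ U) := hU.preimage f
  letI := (f.residueFieldMap x).hom.toAlgebra
  have hint : ∀ a : Γ(X, f ⁻¹ᵁ U), IsIntegral (Y.residueField (f x)) (X.evaluation (f ⁻¹ᵁ U) x hxU a) := by
    intro a
    obtain ⟨P, hP, hPa⟩ := f.isIntegral_app U hU a
    refine ⟨P.map (Y.evaluation U (f x) hxU).hom, hP.map _, ?_⟩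
    rw [Polynomial.eval₂_map]
    have h1 := congrArg (X.evaluation (f ⁻¹ᵁ U) x hxU).hom hPa
    rw [Polynomial.hom_eval₂, map_zero] at h1
    refine Eq.trans ?_ h1
    congr 1
    ext r
    exact Scheme.evaluation_naturality_apply f x hxU r
  haveI : Algebra.IsAlgebraic (Y.residueField (f x)) (X.residueField x) := ⟨fun z => by
    obtain ⟨a, b, -, rfl⟩ := CycLib.exists_fraction_affine (specializes_rfl (x := x)) hV (show x ∈ f ⁻¹ᵁ U from hxU) z
    have hx' : x ∈ f ⁻¹ᵁ U := hxU
    rw [CycLib.specMap_germ (x := x) (ξ := x) _ hx' hx', CycLib.specMap_germ (x := x) (ξ := x) _ hx' hx', div_eq_mul_inv]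
    exact ((hint a).isAlgebraic).mul ((hint b).isAlgebraic).inv⟩
  exact trdeg_eq_zero

/-- Lengths of rings are invariant under isomorphisms. -/
theorem length_ringEquiv {R S : Type u} [CommRing R] [CommRing S] (e : R ≃+* S) :
    Module.length R R = Module.length S S := by
  letI := e.toRingHom.toAlgebra
  rw [← Module.length_eq_of_surjective (R := S) (M := S) (show Function.Surjective (algebraMap R S) from e.surjective)]
  exact (AlgEquiv.ofRingEquiv (R := R) (f := e) fun _ => rfl : R ≃ₐ[R] S).toLinearEquiv.length_eq

/-- The local ring of the spectrum of a local ring with one prime is the ring. -/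
theorem length_stalk_spec {C : Type u} [CommRing C] [IsLocalRing C] [Subsingleton (PrimeSpectrum C)]
    (q : Spec (CommRingCat.of C)) :
    Module.length ((Spec (CommRingCat.of C)).presheaf.stalk q) ((Spec (CommRingCat.of C)).presheaf.stalk q) =
      Module.length C C := by
  let L := Localization.AtPrime q.asIdeal
  have hu : ∀ x ∈ q.asIdeal.primeCompl, IsUnit x := fun x hx => by
    by_contra h
    obtain ⟨m, hm, hxm⟩ := exists_max_ideal_of_mem_nonunits h
    exact hx (congrArg PrimeSpectrum.asIdeal (Subsingleton.elim (α := PrimeSpectrum C) q ⟨m, hm.isPrime⟩) ▸ hxm)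
  exact (length_ringEquiv (StructureSheaf.stalkIso C q).toRingEquiv.symm).trans
    (length_ringEquiv (IsLocalization.atUnits C q.asIdeal.primeCompl (S := L) hu).toRingEquiv).symm

section Perfect

variable (k : Type u) [Field k] (L : Type u) [Field L] [Algebra k L] [IsPurelyInseparable k L]
  (f : X ⟶ Spec (CommRingCat.of k))

/-- The structure map of a residue field. -/
noncomputable def residueHom (x : X) : k →+* X.residueField x :=
  (Spec.preimage (X.fromSpecResidueField x ≫ f)).hom

/-- The fibre of the projection is the spectrum of the tensor product. -/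
theorem exists_fiber_iso (x : X) :
    letI := (residueHom k f x).toAlgebra
    Nonempty ((pullback.fst f (Spec.map (CommRingCat.ofHom (algebraMap k L)))).fiber x ≅
      Spec (CommRingCat.of (L ⊗[k] X.residueField x))) := by
  letI := (residueHom k f x).toAlgebra
  have h1 := (IsPullback.of_hasPullback (pullback.fst f (Spec.map (CommRingCat.ofHom (algebraMap k L))))
      (X.fromSpecResidueField x)).paste_horiz
    (IsPullback.of_hasPullback f (Spec.map (CommRingCat.ofHom (algebraMap k L)))).flip
  have h2 : Spec.map (CommRingCat.ofHom (algebraMap k (X.residueField x))) = X.fromSpecResidueField x ≫ f :=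
    Spec.map_preimage _
  have h3 := IsPullback.of_hasPullback (Spec.map (CommRingCat.ofHom (algebraMap k L))) (X.fromSpecResidueField x ≫ f)
  rw [← h2] at h1
  exact ⟨h1.isoPullback ≪≫ pullbackSpecIso k L (X.residueField x)⟩

variable [LocallyOfFiniteType f]

/-- Points and multiplicities of the purely inseparable base change. -/
theorem point_and_mult (q : ℕ) (hq : q.Prime) [ExpChar k q] :
    Function.Bijective (pullback.fst f (Spec.map (CommRingCat.ofHom (algebraMap k L)))) ∧
    ∀ x' : ↥(pullback f (Spec.map (CommRingCat.ofHom (algebraMap k L)))), ∃ m : ℕ,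
      Module.length ((pullback f (Spec.map (CommRingCat.ofHom (algebraMap k L)))).presheaf.stalk x')
        ((pullback f (Spec.map (CommRingCat.ofHom (algebraMap k L)))).presheaf.stalk x' ⧸
          CycLib.fibIdeal (pullback.fst f (Spec.map (CommRingCat.ofHom (algebraMap k L)))) x') = (q ^ m : ℕ) := by
  set π := pullback.fst f (Spec.map (CommRingCat.ofHom (algebraMap k L))) with hπ
  haveI : IsLocallyNoetherian (pullback f (Spec.map (CommRingCat.ofHom (algebraMap k L)))) :=
    LocallyOfFiniteType.isLocallyNoetherian (pullback.snd f (Spec.map (CommRingCat.ofHom (algebraMap k L))))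
  constructor
  · refine ⟨fun a b hab => ?_, fun x => ?_⟩
    · letI := (residueHom k f (π b)).toAlgebra
      obtain ⟨e⟩ := exists_fiber_iso k L f (π b)
      haveI : Subsingleton ↥(Spec (CommRingCat.of (L ⊗[k] X.residueField (π b)))) :=
        subsingleton_spectrum k L (X.residueField (π b))
      haveI : Subsingleton ↥(π.fiber (π b)) := (Scheme.homeoOfIso e).toEquiv.subsingleton
      have h := congrArg Subtype.val (congrArg (π.fiberHomeo (π b))
        (Subsingleton.elim ((π.fiberHomeo (π b)).symm ⟨a, hab⟩) ((π.fiberHomeo (π b)).symm ⟨b, rfl⟩)))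
      simpa using h
    · letI := (residueHom k f x).toAlgebra
      obtain ⟨e⟩ := exists_fiber_iso k L f x
      haveI := isLocalRing_tensor k L (X.residueField x)
      let z : π.fiber x := e.inv (IsLocalRing.closedPoint (L ⊗[k] X.residueField x))
      exact ⟨π.fiberι x z, (π.range_fiberι x).le ⟨z, rfl⟩⟩
  · intro x'
    letI := (residueHom k f (π x')).toAlgebra
    obtain ⟨e⟩ := exists_fiber_iso k L f (π x')
    haveI := isLocalRing_tensor k L (X.residueField (π x'))
    haveI := subsingleton_spectrum k L (X.residueField (π x'))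
    haveI : IsLocallyNoetherian (π.fiber (π x')) := CycLib.isLocallyNoetherian_fiber π (π x')
    haveI : IsLocallyNoetherian (Spec (CommRingCat.of (L ⊗[k] X.residueField (π x')))) :=
      isLocallyNoetherian_of_isOpenImmersion e.inv
    haveI : IsNoetherianRing (L ⊗[k] X.residueField (π x')) := isNoetherianRing_of_spec _
    obtain ⟨m, hm⟩ := exists_length_eq_pow k L (X.residueField (π x')) q hq
    refine ⟨m, ?_⟩
    obtain ⟨z, hz⟩ : ∃ z : π.fiber (π x'), π.fiberι (π x') z = x' :=
      ⟨(π.fiberHomeo (π x')).symm ⟨x', rfl⟩, congrArg Subtype.val ((π.fiberHomeo (π x')).apply_symm_apply ⟨x', rfl⟩)⟩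
    have h4 := CycLib.length_stalk_fiber π (π x') z
    rw [hz] at h4
    rw [← h4, ← length_ringEquiv (asIso (e.hom.stalkMap z)).commRingCatIsoToRingEquiv]
    exact (length_stalk_spec _).trans hm
where
  isNoetherianRing_of_spec (C : Type u) [CommRing C] [IsLocallyNoetherian (Spec (CommRingCat.of C))] :
      IsNoetherianRing C := by
    haveI := IsLocallyNoetherian.component_noetherian
      (X := Spec (CommRingCat.of C)) ⟨⊤, isAffineOpen_top _⟩
    exact isNoetherianRing_of_ringEquiv _ (Scheme.ΓSpecIso (CommRingCat.of C)).commRingCatIsoToRingEquiv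

end Perfect

end Groth.Agent.InsepLenLib
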