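import Groth.Agent.InjHullLib.BaseChange
import Groth.Agent.CycLib.EulerPts

/-!
# The length of a purely inseparable base change of a field is a power of the characteristic
-/

set_option autoImplicit false
set_option linter.style.haveILetI false
set_option maxHeartbeats 1000000

universe u

open TensorProduct IsLocalRing

namespace Groth.Agent.InsepLenLib

variable (k L K : Type u) [Field k] [Field L] [Field K] [Algebra k L] [Algebra k K]

theorem subsingleton_spectrum [IsPurelyInseparable k L] : Subsingleton (PrimeSpectrum (L ⊗[k] K)) := by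
  have h1 : Function.Injective (PrimeSpectrum.comap (Algebra.TensorProduct.comm k K L).toRingEquiv.toRingHom) :=
    (PrimeSpectrum.isHomeomorph_comap_of_bijective
      (Algebra.TensorProduct.comm k K L).toRingEquiv.bijective).injective
  exact (PrimeSpectrum.isHomeomorph_comap_of_isPurelyInseparable k L K).injective.comp h1 |>.subsingleton

theorem isLocalRing_tensor [IsPurelyInseparable k L] : IsLocalRing (L ⊗[k] K) := by
  haveI := subsingleton_spectrum k L K
  haveI : Nontrivial (L ⊗[k] K) :=
    (Algebra.TensorProduct.includeLeft_injective (S := k) (A := L) (B := K) (algebraMap k K).injective).nontrivial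
  obtain ⟨m, hm⟩ := Ideal.exists_maximal (L ⊗[k] K)
  exact IsLocalRing.of_unique_max_ideal ⟨m, hm, fun J hJ =>
    congrArg PrimeSpectrum.asIdeal (Subsingleton.elim (⟨J, hJ.isPrime⟩ : PrimeSpectrum (L ⊗[k] K)) ⟨m, hm.isPrime⟩)⟩

theorem maximalIdeal_le_nilradical [IsPurelyInseparable k L] :
    letI := isLocalRing_tensor k L K
    maximalIdeal (L ⊗[k] K) ≤ nilradical (L ⊗[k] K) := by
  letI := isLocalRing_tensor k L K
  haveI := subsingleton_spectrum k L K
  rw [nilradical_eq_sInf]
  refine le_sInf fun J hJ => le_of_eq ?_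
  exact congrArg PrimeSpectrum.asIdeal
    (Subsingleton.elim (⟨maximalIdeal _, inferInstance⟩ : PrimeSpectrum (L ⊗[k] K)) ⟨J, hJ⟩)

/-- Finitely many tensors come from a finite subextension. -/
theorem exists_finite_stage (s : L ⊗[k] K) : ∃ T : Finset L, ∀ F : IntermediateField k L, (T : Set L) ⊆ F →
    s ∈ (Algebra.TensorProduct.map F.val (AlgHom.id k K)).range := by
  classical
  induction s using TensorProduct.induction_on with
  | zero => exact ⟨∅, fun F _ => ⟨0, map_zero _⟩⟩
  | tmul l a => exact ⟨{l}, fun F hF => ⟨⟨l, hF (by simp)⟩ ⊗ₜ a, rfl⟩⟩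
  | add x y hx hy =>
    obtain ⟨T, hT⟩ := hx
    obtain ⟨T', hT'⟩ := hy
    exact ⟨T ∪ T', fun F hF => add_mem (hT F fun z hz => hF (by simp [hz]))
      (hT' F fun z hz => hF (by simp [hz]))⟩

/-- The base change of a subextension is flat. -/
theorem flat_map (M : Type u) [Field M] [Algebra k M] [Algebra M L] [IsScalarTower k M L] :
    RingHom.Flat (R := M ⊗[k] K) (S := L ⊗[k] K)
      (Algebra.TensorProduct.map (IsScalarTower.toAlgHom k M L) (AlgHom.id k K)).toRingHom := by
  let e : L ⊗[M] (M ⊗[k] K) ≃ₐ[M] L ⊗[k] K := Algebra.TensorProduct.cancelBaseChange k M M L K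
  have h1 : (algebraMap (M ⊗[k] K) ((M ⊗[k] K) ⊗[M] L)).Flat := RingHom.flat_algebraMap_iff.2 inferInstance
  have h2 := h1.comp (RingHom.Flat.of_bijective
    (f := ((Algebra.TensorProduct.comm M (M ⊗[k] K) L).trans e).toRingEquiv.toRingHom)
    ((Algebra.TensorProduct.comm M (M ⊗[k] K) L).trans e).bijective)
  convert h2 using 1
  refine RingHom.ext fun z => ?_
  induction z using TensorProduct.induction_on with
  | zero => simp
  | tmul a b => simp [e, Algebra.TensorProduct.cancelBaseChange_tmul, Algebra.smul_def]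
  | add x y hx hy => rw [map_add, map_add, hx, hy]

/-- Lengths along an unramified flat local extension of a finite local algebra. -/
theorem length_eq_pow_of (K A B : Type u) [Field K] [CommRing A] [CommRing B] [IsLocalRing A] [IsLocalRing B]
    [Algebra K A] [Module.Finite K A] [Algebra A B] [Module.Flat A B]
    (hmap : (maximalIdeal A).map (algebraMap A B) = maximalIdeal B) (q n : ℕ) (hq : q.Prime)
    (hn : Module.finrank K A = q ^ n) : ∃ m : ℕ, Module.length B B = (q ^ m : ℕ) := by
  haveI : IsNoetherianRing A := isNoetherian_of_tower K inferInstance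
  haveI : IsArtinianRing A := isArtinian_of_tower K inferInstance
  have hfin : IsFiniteLength A A := isFiniteLength_iff_isNoetherian_isArtinian.2 ⟨inferInstance, inferInstance⟩
  have key := InjHullLib.length_baseChange B hfin
  haveI : IsSimpleModule B (B ⧸ maximalIdeal B) := isSimpleModule_iff_isCoatom.2 (maximalIdeal.isMaximal B).out
  rw [(Algebra.TensorProduct.rid A B B).toLinearEquiv.length_eq, hmap,
    Module.length_eq_one B (B ⧸ maximalIdeal B), mul_one] at key
  have h3 := CycLib.finrank_eq_length_mul K (R := A) A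
  rw [hn] at h3
  obtain ⟨m, -, hm⟩ := (Nat.dvd_prime_pow hq).1 (Dvd.intro _ h3.symm)
  refine ⟨m, key.trans ?_⟩
  rw [← hm, ENat.coe_toNat (Module.length_ne_top_iff.2 hfin)]

/-- Lengths for a ring presented as a base change. -/
theorem length_eq_pow_tensor (F A B : Type u) [Field F] [Algebra k F] [FiniteDimensional k F] [CommRing A]
    [CommRing B] [IsLocalRing A] [IsLocalRing B] (e : K ⊗[k] F ≃+* A) (f : A →+* B) (hfl : f.Flat)
    (hmap : (maximalIdeal A).map f = maximalIdeal B) (q n : ℕ) (hq : q.Prime) (hn : Module.finrank k F = q ^ n) :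
    ∃ m : ℕ, Module.length B B = (q ^ m : ℕ) := by
  letI : Algebra K A := (e.toRingHom.comp (algebraMap K (K ⊗[k] F))).toAlgebra
  let eK : K ⊗[k] F ≃ₐ[K] A := AlgEquiv.ofRingEquiv (f := e) fun _ => rfl
  haveI : Module.Finite K A := Module.Finite.equiv eK.toLinearEquiv
  letI : Algebra A B := f.toAlgebra
  haveI : Module.Flat A B := hfl
  exact length_eq_pow_of K A B hmap q n hq (by rw [← eK.toLinearEquiv.finrank_eq, Module.finrank_baseChange, hn])

/-- Lengths above a finite stage containing generators of the maximal ideal. -/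
theorem length_eq_pow_stage [IsPurelyInseparable k L] (F : Type u) [Field F] [Algebra k F] [Algebra F L]
    [IsScalarTower k F L] [FiniteDimensional k F] [IsPurelyInseparable k F] [IsLocalRing (L ⊗[k] K)]
    [IsLocalRing (F ⊗[k] K)] (S : Set (L ⊗[k] K)) (hS : Ideal.span S = maximalIdeal (L ⊗[k] K))
    (hgen : ∀ s ∈ S, s ∈ (Algebra.TensorProduct.map (IsScalarTower.toAlgHom k F L) (AlgHom.id k K)).range)
    (q n : ℕ) (hq : q.Prime) (hn : Module.finrank k F = q ^ n) :
    ∃ m : ℕ, Module.length (L ⊗[k] K) (L ⊗[k] K) = (q ^ m : ℕ) := by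
  refine length_eq_pow_tensor k K F (F ⊗[k] K) (L ⊗[k] K)
    (Algebra.TensorProduct.comm k K F).toRingEquiv _ (flat_map k L K F) ?_ q n hq hn
  refine le_antisymm (Ideal.map_le_iff_le_comap.2 fun t ht => ?_) ?_
  · refine Ideal.mem_comap.2 ((mem_maximalIdeal _).2 fun hu => ?_)
    obtain ⟨N, hN⟩ := mem_nilradical.1 (maximalIdeal_le_nilradical k F K ht)
    have := hu.pow N
    rw [← map_pow, hN, map_zero] at this
    exact not_isUnit_zero this
  · rw [← hS]
    refine Ideal.span_le.2 fun s hs => ?_
    obtain ⟨t, ht⟩ := hgen s hs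
    have hs' : s ∈ maximalIdeal (L ⊗[k] K) := hS ▸ Ideal.subset_span hs
    rw [← ht]
    refine Ideal.mem_map_of_mem _ ((mem_maximalIdeal _).2 fun hu => (mem_maximalIdeal _).1 hs' ?_)
    rw [← ht]
    exact hu.map _

/-- The length of `L ⊗ K` is a power of the characteristic. -/
theorem exists_length_eq_pow [IsPurelyInseparable k L] [IsNoetherianRing (L ⊗[k] K)] (q : ℕ) (hq : q.Prime) [ExpChar k q] :
    ∃ m : ℕ, Module.length (L ⊗[k] K) (L ⊗[k] K) = (q ^ m : ℕ) := by
  classical
  letI := isLocalRing_tensor k L K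
  obtain ⟨S, hS⟩ := (IsNoetherian.noetherian (maximalIdeal (L ⊗[k] K)) : (maximalIdeal (L ⊗[k] K)).FG)
  choose T hT using exists_finite_stage k L K
  let F : IntermediateField k L := IntermediateField.adjoin k ↑(S.biUnion T)
  haveI : FiniteDimensional k F := IntermediateField.finiteDimensional_adjoin
    fun x _ => (IsPurelyInseparable.isIntegral' k x)
  haveI : IsPurelyInseparable k F := IsPurelyInseparable.tower_bot k F L
  letI := isLocalRing_tensor k F K
  obtain ⟨n, hn⟩ := IsPurelyInseparable.finrank_eq_pow k F q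
  exact length_eq_pow_stage k L K F S hS
    (fun s hs => hT s F fun z hz => IntermediateField.subset_adjoin k _ (Finset.mem_biUnion.2 ⟨s, hs, hz⟩))
    q n hq hn

end Groth.Agent.InsepLenLib
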